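import Mathlib
import Groth.Agent.Lib.Helper1.RedFlatUV

/-!
# Locally constant Betti numbers over a reduced ring give projective cohomology
-/

set_option autoImplicit false

universe u v w

open TensorProduct Groth.Agent.H1.FibDimUV

namespace Groth.Agent.H8.Betti

section Split

variable {A : Type u} [CommRing A] {C D : Type v} [AddCommGroup C] [Module A C]
  [AddCommGroup D] [Module A D]

/-- The kernel of a surjection onto a projective module is a retract of the source. -/
lemma exists_retraction_ker (g : C →ₗ[A] D) (hg : Function.Surjective g) [Module.Projective A D] :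
    ∃ r : C →ₗ[A] LinearMap.ker g, r ∘ₗ (LinearMap.ker g).subtype = LinearMap.id := by
  obtain ⟨τ, hτ⟩ := g.exists_rightInverse_of_surjective (LinearMap.range_eq_top.2 hg)
  have hmem : ∀ c : C, ((LinearMap.id : C →ₗ[A] C) - τ ∘ₗ g) c ∈ LinearMap.ker g := by
    intro c
    have := LinearMap.congr_fun hτ (g c)
    simp only [LinearMap.comp_apply, LinearMap.id_apply] at this
    simp [LinearMap.mem_ker, this]
  refine ⟨((LinearMap.id : C →ₗ[A] C) - τ ∘ₗ g).codRestrict _ hmem, ?_⟩
  ext ⟨c, hc⟩
  rw [LinearMap.mem_ker] at hc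
  simp [hc]

lemma projective_ker (g : C →ₗ[A] D) (hg : Function.Surjective g) [Module.Projective A D]
    [Module.Projective A C] : Module.Projective A (LinearMap.ker g) := by
  obtain ⟨r, hr⟩ := exists_retraction_ker g hg
  exact Module.Projective.of_split _ r hr

lemma finite_ker (g : C →ₗ[A] D) (hg : Function.Surjective g) [Module.Projective A D]
    [Module.Finite A C] : Module.Finite A (LinearMap.ker g) := by
  obtain ⟨r, hr⟩ := exists_retraction_ker g hg
  refine Module.Finite.of_surjective r fun x => ⟨x, ?_⟩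
  exact LinearMap.congr_fun hr x

end Split

variable {A : Type u} [CommRing A] {M0 M1 M2 : Type v} [AddCommGroup M0] [Module A M0]
  [AddCommGroup M1] [Module A M1] [AddCommGroup M2] [Module A M2]

/-- If the fibre rank of `φ` is locally constant, the cokernel is projective (over a reduced
ring, the target being finite projective). -/
theorem projective_coker_of_fibRank [IsReduced A] (φ : M0 →ₗ[A] M1) [Module.Finite A M0]
    [Module.Finite A M1] [Module.Projective A M1]
    (h : ∀ x : PrimeSpectrum A, ∀ᶠ y in nhds x, fibRank φ y = fibRank φ x) :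
    Module.Projective A (M1 ⧸ LinearMap.range φ) := by
  have hflat : Module.Flat A (M1 ⧸ LinearMap.range φ) := by
    refine flat_of_fibDim_locallyConstant _ fun x => ?_
    filter_upwards [h x, fibDim_eventually_eq M1 x] with y h1 h2
    have e1 := fibRank_add_fibDim φ x
    have e2 := fibRank_add_fibDim φ y
    omega
  have : Module.FinitePresentation A M1 := Module.finitePresentation_of_projective A M1
  have hfp : Module.FinitePresentation A (M1 ⧸ LinearMap.range φ) := by
    refine Module.finitePresentation_of_surjective (LinearMap.range φ).mkQ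
      (LinearMap.range φ).mkQ_surjective ?_
    rw [Submodule.ker_mkQ]
    rw [LinearMap.range_eq_map]
    exact Submodule.FG.map _ Module.Finite.fg_top
  exact Module.Flat.projective_of_finitePresentation

/-- The Betti number of the fibre at `x` of `M0 → M1 → M2`. -/
noncomputable def betti (φ : M0 →ₗ[A] M1) (ψ : M1 →ₗ[A] M2) (x : PrimeSpectrum A) : ℕ :=
  fibKer ψ x - fibRank φ x

lemma fibRank_le_fibKer (φ : M0 →ₗ[A] M1) (ψ : M1 →ₗ[A] M2) (h : ψ ∘ₗ φ = 0)
    [Module.Finite A M1] (x : PrimeSpectrum A) : fibRank φ x ≤ fibKer ψ x := by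
  unfold fibRank fibKer
  refine Submodule.finrank_mono ?_
  rw [LinearMap.range_le_ker_iff, ← LinearMap.baseChange_comp, h, LinearMap.baseChange_zero]

lemma betti_add (φ : M0 →ₗ[A] M1) (ψ : M1 →ₗ[A] M2) (h : ψ ∘ₗ φ = 0)
    [Module.Finite A M1] (x : PrimeSpectrum A) :
    betti φ ψ x + fibRank φ x + fibRank ψ x = fibDim M1 x := by
  have h1 := fibRank_le_fibKer φ ψ h x
  have h2 := fibRank_add_fibKer ψ x
  unfold betti
  omega

/-- If the Betti numbers are locally constant then so are both fibre ranks. -/
theorem fibRank_eventually_eq_of_betti (φ : M0 →ₗ[A] M1) (ψ : M1 →ₗ[A] M2) (h : ψ ∘ₗ φ = 0)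
    [Module.Finite A M1] [Module.Projective A M1] [Module.Finite A M2] [Module.Projective A M2]
    (hb : ∀ x : PrimeSpectrum A, ∀ᶠ y in nhds x, betti φ ψ y = betti φ ψ x)
    (x : PrimeSpectrum A) :
    ∀ᶠ y in nhds x, fibRank φ y = fibRank φ x ∧ fibRank ψ y = fibRank ψ x := by
  filter_upwards [hb x, fibRank_ge_eventually φ x, fibRank_ge_eventually ψ x,
    fibDim_eventually_eq M1 x] with y h1 h2 h3 h4
  have e1 := betti_add φ ψ h x
  have e2 := betti_add φ ψ h y
  omega

/-- The cohomology `ker ψ / im φ`. -/
abbrev coh (φ : M0 →ₗ[A] M1) (ψ : M1 →ₗ[A] M2) : Type v :=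
  LinearMap.ker ψ ⧸ (LinearMap.range φ).comap (LinearMap.ker ψ).subtype

/-- Main algebraic theorem. -/
theorem coh_finite_projective [IsReduced A] (φ : M0 →ₗ[A] M1) (ψ : M1 →ₗ[A] M2)
    (h : ψ ∘ₗ φ = 0) [Module.Finite A M0]
    [Module.Finite A M1] [Module.Projective A M1] [Module.Finite A M2] [Module.Projective A M2]
    (hb : ∀ x : PrimeSpectrum A, ∀ᶠ y in nhds x, betti φ ψ y = betti φ ψ x) :
    Module.Finite A (coh φ ψ) ∧ Module.Projective A (coh φ ψ) := by
  have hφ : Module.Projective A (M1 ⧸ LinearMap.range φ) :=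
    projective_coker_of_fibRank φ fun x =>
      (fibRank_eventually_eq_of_betti φ ψ h hb x).mono fun y hy => hy.1
  have hψ : Module.Projective A (M2 ⧸ LinearMap.range ψ) :=
    projective_coker_of_fibRank ψ fun x =>
      (fibRank_eventually_eq_of_betti φ ψ h hb x).mono fun y hy => hy.2
  -- the image of ψ is projective
  have hR : Module.Projective A (LinearMap.range ψ) := by
    have := projective_ker (LinearMap.range ψ).mkQ (LinearMap.range ψ).mkQ_surjective
    rwa [Submodule.ker_mkQ] at this
  -- the induced map `ψ̄ : M1 / im φ → im ψ`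
  have hle : LinearMap.range φ ≤ LinearMap.ker ψ.rangeRestrict := by
    rw [LinearMap.ker_rangeRestrict]
    exact LinearMap.range_le_ker_iff.2 h
  let ψb : (M1 ⧸ LinearMap.range φ) →ₗ[A] LinearMap.range ψ :=
    (LinearMap.range φ).liftQ ψ.rangeRestrict hle
  have hψb : Function.Surjective ψb := by
    rintro y
    obtain ⟨m, hm⟩ := ψ.surjective_rangeRestrict y
    exact ⟨Submodule.Quotient.mk m, by simpa [ψb] using hm⟩
  have hK1 : Module.Projective A (LinearMap.ker ψb) := projective_ker ψb hψb
  have hK2 : Module.Finite A (LinearMap.ker ψb) := finite_ker ψb hψb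
  -- identify the cohomology with the kernel of `ψ̄`
  let j : LinearMap.ker ψ →ₗ[A] (M1 ⧸ LinearMap.range φ) :=
    (LinearMap.range φ).mkQ ∘ₗ (LinearMap.ker ψ).subtype
  have hkerj : LinearMap.ker j = (LinearMap.range φ).comap (LinearMap.ker ψ).subtype := by
    rw [LinearMap.ker_comp, Submodule.ker_mkQ]
  have hrangej : LinearMap.range j = LinearMap.ker ψb := by
    ext c
    constructor
    · rintro ⟨⟨m, hm⟩, rfl⟩
      rw [LinearMap.mem_ker] at hm ⊢
      apply Subtype.ext
      simpa [j, ψb] using hm
    · intro hc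
      obtain ⟨m, rfl⟩ := Submodule.Quotient.mk_surjective _ c
      rw [LinearMap.mem_ker] at hc
      have hm : ψ m = 0 := by
        have := congrArg Subtype.val hc
        simpa [ψb] using this
      exact ⟨⟨m, hm⟩, rfl⟩
  let e : coh φ ψ ≃ₗ[A] LinearMap.ker ψb :=
    (Submodule.quotEquivOfEq _ _ hkerj.symm).trans
      (j.quotKerEquivRange.trans (LinearEquiv.ofEq _ _ hrangej))
  exact ⟨Module.Finite.equiv e.symm, Module.Projective.of_equiv e.symm⟩

end Groth.Agent.H8.Betti
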