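import Mathlib
import Groth.Agent.Lib.Helper8.Betti.Alg

set_option autoImplicit false

universe u

open CategoryTheory TensorProduct Groth.Agent.H1.FibDimUV

namespace Groth.Agent.H8.Betti

/-- finrank of the homology of a short complex of finite-dimensional vector spaces. -/
lemma finrank_shortComplex_homology {K : Type u} [Field K] (S : ShortComplex (ModuleCat.{u} K))
    [Module.Finite K S.X₂] :
    Module.finrank K S.homology =
      Module.finrank K (LinearMap.ker S.g.hom) - Module.finrank K (LinearMap.range S.f.hom) := by
  have e := S.moduleCatHomologyIso.toLinearEquiv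
  rw [e.finrank_eq]
  change Module.finrank K (LinearMap.ker S.g.hom ⧸ LinearMap.range S.moduleCatToCycles) = _
  have h1 := Submodule.finrank_quotient_add_finrank (LinearMap.range S.moduleCatToCycles)
  have h2 : Module.finrank K (LinearMap.range S.moduleCatToCycles) =
      Module.finrank K (LinearMap.range S.f.hom) := by
    have hle : LinearMap.range S.f.hom ≤ LinearMap.ker S.g.hom := by
      rw [LinearMap.range_le_ker_iff, ← ModuleCat.hom_comp, S.zero]; rfl
    rw [show LinearMap.range S.moduleCatToCycles =
      (LinearMap.range S.f.hom).comap (LinearMap.ker S.g.hom).subtype from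
        LinearMap.range_codRestrict _ _ _]
    exact (Submodule.comapSubtypeEquivOfLe hle).finrank_eq
  omega

end Groth.Agent.H8.Betti

namespace Groth.Agent.H8.Betti

lemma finrank_homology_eq {K : Type u} [Field K] (C : CochainComplex (ModuleCat.{u} K) ℤ) (i : ℤ)
    [Module.Finite K (C.X i)] :
    Module.finrank K (C.homology i) =
      Module.finrank K (LinearMap.ker (C.d i (i + 1)).hom) -
        Module.finrank K (LinearMap.range (C.d (i - 1) i).hom) := by
  have e : C.homology i ≅ (C.sc' (i - 1) i (i + 1)).homology :=
    ShortComplex.homologyMapIso (C.isoSc' (i - 1) i (i + 1) (by simp) (by simp))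
  rw [e.toLinearEquiv.finrank_eq]
  have : Module.Finite K (C.sc' (i - 1) i (i + 1)).X₂ := ‹Module.Finite K (C.X i)›
  exact finrank_shortComplex_homology (C.sc' (i - 1) i (i + 1))

variable {R : Type u} [CommRing R]

/-- the homology of a complex of modules as `coh`. -/
noncomputable def homologyEquiv (P : CochainComplex (ModuleCat.{u} R) ℤ) (i : ℤ) :
    P.homology i ≃ₗ[R] coh (P.d (i - 1) i).hom (P.d i (i + 1)).hom :=
  (ShortComplex.homologyMapIso (P.isoSc' (i - 1) i (i + 1) (by simp) (by simp))).toLinearEquiv.trans
    ((P.sc' (i - 1) i (i + 1)).moduleCatHomologyIso.toLinearEquiv.trans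
      (Submodule.quotEquivOfEq _ _ (LinearMap.range_codRestrict _ _ _)))

end Groth.Agent.H8.Betti

namespace Groth.Agent.H8.Betti

variable {R : Type u} [CommRing R]

set_option backward.isDefEq.respectTransparency false in
lemma finrank_homology_extendScalars {K : Type u} [Field K] (f : R →+* K) [inst : Algebra R K]
    (hf : algebraMap R K = f)
    (P : CochainComplex (ModuleCat.{u} R) ℤ) (hfin : ∀ j, Module.Finite R (P.X j)) (i : ℤ) :
    Module.finrank K ((((ModuleCat.extendScalars f).mapHomologicalComplex
          (ComplexShape.up ℤ)).obj P).homology i) =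
      Module.finrank K (LinearMap.ker ((P.d i (i + 1)).hom.baseChange K)) -
      Module.finrank K (LinearMap.range ((P.d (i - 1) i).hom.baseChange K)) := by
  have hinst : inst = ((algebraMap K K).comp f).toAlgebra :=
    Algebra.algebra_ext _ _ (fun r => by rw [hf]; rfl)
  subst hinst
  letI : Algebra R K := ((algebraMap K K).comp f).toAlgebra
  have := hfin i
  have : Module.Finite K ((((ModuleCat.extendScalars f).mapHomologicalComplex
      (ComplexShape.up ℤ)).obj P).X i) := by
    change Module.Finite K (K ⊗[R] P.X i)
    infer_instance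
  rw [finrank_homology_eq]
  rfl

end Groth.Agent.H8.Betti

namespace Groth.Agent.H8.Betti

variable {R : Type u} [CommRing R]

theorem main [IsReduced R] (P : CochainComplex (ModuleCat.{u} R) ℤ)
    (hP : ∀ j : ℤ, Module.Finite R (P.X j) ∧ Module.Free R (P.X j)) (i : ℤ)
    (hconst : IsLocallyConstant fun p : PrimeSpectrum R =>
      Module.finrank p.asIdeal.ResidueField
        ((((ModuleCat.extendScalars (algebraMap R p.asIdeal.ResidueField)).mapHomologicalComplex
          (ComplexShape.up ℤ)).obj P).homology i)) :
    Module.Finite R (P.homology i) ∧ Module.Projective R (P.homology i) := by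
  have h0 := (hP (i - 1)).1
  have h1 := (hP i).1
  have h2 := (hP (i + 1)).1
  have h1' := (hP i).2
  have h2' := (hP (i + 1)).2
  have hcomp : (P.d i (i + 1)).hom ∘ₗ (P.d (i - 1) i).hom = 0 := by
    rw [← ModuleCat.hom_comp, P.d_comp_d]; rfl
  have hfun : (fun p : PrimeSpectrum R =>
      Module.finrank p.asIdeal.ResidueField
        ((((ModuleCat.extendScalars (algebraMap R p.asIdeal.ResidueField)).mapHomologicalComplex
          (ComplexShape.up ℤ)).obj P).homology i)) =
      betti (P.d (i - 1) i).hom (P.d i (i + 1)).hom := by
    funext p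
    exact finrank_homology_extendScalars _ rfl P (fun j => (hP j).1) i
  rw [hfun] at hconst
  obtain ⟨hF, hPr⟩ := coh_finite_projective (P.d (i - 1) i).hom (P.d i (i + 1)).hom hcomp
    (fun x => hconst.eventually_eq x)
  exact ⟨Module.Finite.equiv (homologyEquiv P i).symm,
    Module.Projective.of_equiv (homologyEquiv P i).symm⟩

end Groth.Agent.H8.Betti
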